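import Mathlib
import Groth.Prelude.Def_Exal
import Groth.Prelude.Def_Exal2
import Groth.Prelude.Def_Exal3

/-!
# Basic facts on extensions of algebras by modules
-/

universe u v w

namespace Groth.Agent.ExalLib

set_option linter.unusedSectionVars false

open Exal TensorProduct

section General

variable {A : Type u} {B L : Type v} [CommRing A] [CommRing B] [Algebra A B] [AddCommGroup L]
  [Module B L] (X Y : Exal.Ext A B L)

@[simp]
theorem proj_incl (z : L) : X.proj (X.incl z) = 0 := (X.isExtension.exact _).2 ⟨z, rfl⟩

theorem incl_mul_incl (z w : L) : X.incl z * X.incl w = 0 := by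
  rw [X.isExtension.mul_incl, proj_incl, zero_smul, map_zero]

theorem exists_incl_eq {x : X.E} (hx : X.proj x = 0) : ∃ z, X.incl z = x :=
  (X.isExtension.exact x).1 hx

theorem exists_incl_eq_sub {x y : X.E} (h : X.proj x = X.proj y) :
    ∃ z, X.incl z = x - y :=
  exists_incl_eq X (by rw [map_sub, h, sub_self])

/-- An algebra map of middle rings compatible with projections and inclusions is an equivalence. -/
theorem nonempty_equiv_of_algHom (f : X.E →ₐ[A] Y.E) (hp : ∀ x, Y.proj (f x) = X.proj x)
    (hi : ∀ z, f (X.incl z) = Y.incl z) : Nonempty (X.Equiv Y) := by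
  have hinj : Function.Injective f := by
    rw [injective_iff_map_eq_zero]
    intro x hx
    obtain ⟨z, rfl⟩ := exists_incl_eq X (by rw [← hp, hx, map_zero] : X.proj x = 0)
    rw [hi] at hx
    rw [Y.isExtension.incl_injective (hx.trans (map_zero Y.incl).symm), map_zero]
  have hsurj : Function.Surjective f := by
    intro y
    obtain ⟨x, hx⟩ := X.isExtension.proj_surjective (Y.proj y)
    obtain ⟨z, hz⟩ := exists_incl_eq_sub Y (x := y) (y := f x) (by rw [hp, hx])
    exact ⟨x + X.incl z, by rw [map_add, hi, hz]; abel⟩
  exact ⟨{ toAlgEquiv := AlgEquiv.ofBijective f ⟨hinj, hsurj⟩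
           proj_apply := hp
           apply_incl := hi }⟩

/-- Build an equivalence from a section of the target and a component map on the source. -/
theorem nonempty_equiv_of_data (t : B →+* Y.E) (ht : ∀ b, Y.proj (t b) = b) (u : X.E →+ L)
    (hmul : ∀ x y, u (x * y) = X.proj x • u y + X.proj y • u x)
    (hincl : ∀ z, u (X.incl z) = z)
    (halg : ∀ a, algebraMap A Y.E a =
      t (algebraMap A B a) + Y.incl (u (algebraMap A X.E a))) :
    Nonempty (X.Equiv Y) := by
  have h1 : u 1 = 0 := by
    have h := hmul 1 1
    rw [mul_one, map_one X.proj, one_smul, left_eq_add] at h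
    exact h
  let f : X.E →ₐ[A] Y.E :=
    { toFun := fun x => t (X.proj x) + Y.incl (u x)
      map_one' := by simp [h1]
      map_mul' := fun x y => by
        show t (X.proj (x * y)) + Y.incl (u (x * y)) = _
        rw [add_mul, mul_add, mul_add, incl_mul_incl, add_zero, Y.isExtension.mul_incl, ht,
          mul_comm (Y.incl (u x)) (t (X.proj y)), Y.isExtension.mul_incl, ht, map_mul, map_mul,
          hmul, map_add]
        abel
      map_zero' := by simp
      map_add' := fun x y => by
        simp only [map_add]
        abel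
      commutes' := fun a => by
        show t (X.proj _) + Y.incl (u _) = _
        rw [AlgHom.commutes, halg] }
  refine nonempty_equiv_of_algHom X Y f (fun x => ?_) (fun z => ?_)
  · show Y.proj (t (X.proj x) + Y.incl (u x)) = X.proj x
    rw [map_add, ht, proj_incl, add_zero]
  · show t (X.proj (X.incl z)) + Y.incl (u (X.incl z)) = Y.incl z
    rw [proj_incl, map_zero, zero_add, hincl]

/-- The component of an element of the middle ring, relative to a ring section of the projection. -/
noncomputable def secComp (s : B →+* X.E) (hs : ∀ b, X.proj (s b) = b) : X.E →+ L :=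
  AddMonoidHom.mk' (fun x => X.kerLift (x - s (X.proj x)) (by rw [map_sub, hs, sub_self]))
    (fun x y => by
      apply X.isExtension.incl_injective
      rw [map_add X.incl, Ext.incl_kerLift, Ext.incl_kerLift, Ext.incl_kerLift, map_add, map_add]
      abel)

variable (s : B →+* X.E) (hs : ∀ b, X.proj (s b) = b)

theorem incl_secComp (x : X.E) : X.incl (secComp X s hs x) = x - s (X.proj x) := by
  rw [secComp, AddMonoidHom.mk'_apply, Ext.incl_kerLift]

theorem secComp_add (x : X.E) : s (X.proj x) + X.incl (secComp X s hs x) = x := by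
  rw [incl_secComp]; abel

theorem secComp_incl (z : L) : secComp X s hs (X.incl z) = z := by
  apply X.isExtension.incl_injective
  rw [incl_secComp, proj_incl, map_zero, sub_zero]

theorem secComp_section (b : B) : secComp X s hs (s b) = 0 := by
  apply X.isExtension.incl_injective
  rw [incl_secComp, hs, sub_self, map_zero]

theorem secComp_mul (x y : X.E) :
    secComp X s hs (x * y) = X.proj x • secComp X s hs y + X.proj y • secComp X s hs x := by
  apply X.isExtension.incl_injective
  have h0 : (x - s (X.proj x)) * (y - s (X.proj y)) = 0 := by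
    rw [← incl_secComp X s hs x, ← incl_secComp X s hs y, incl_mul_incl]
  rw [map_add, ← X.isExtension.mul_incl x, ← X.isExtension.mul_incl y, incl_secComp, incl_secComp,
    incl_secComp, map_mul, map_mul]
  linear_combination (norm := ring) -h0

theorem isTrivial_of_section (h : ∀ a, s (algebraMap A B a) = algebraMap A X.E a)
    (hs : ∀ b, X.proj (s b) = b) : X.IsTrivial :=
  ⟨{ s with commutes' := h }, hs⟩

end General

section Over

variable {A : Type w} {B : Type u} {C L : Type v} [CommRing A] [CommRing B] [CommRing C]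
  [Algebra A B] [Algebra B C] [Algebra A C] [IsScalarTower A B C] [AddCommGroup L] [Module C L]
  (X : Exal.Ext B C L)

theorem isTrivialOver_iff_exists :
    X.IsTrivialOver A ↔ ∃ s : C →+* X.E, (∀ c, X.proj (s c) = c) ∧
      ∀ a, s (algebraMap A C a) = algebraMap B X.E (algebraMap A B a) := by
  constructor
  · rintro ⟨s, hs⟩
    exact ⟨s.toRingHom, hs, fun a => s.commutes a⟩
  · rintro ⟨s, hs, ha⟩
    exact isTrivial_of_section (X.restrictBase A) s ha hs

/-- A lift of the identity through a formally smooth algebra. -/
theorem isTrivialOver_of_formallySmooth [Algebra.FormallySmooth A C] : X.IsTrivialOver A := by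
  let Y := X.restrictBase A
  have hker : RingHom.ker (Y.proj : Y.E →+* C) ^ 2 = ⊥ := by
    rw [pow_two, eq_bot_iff, Ideal.mul_le]
    intro x hx y hy
    rw [Ideal.mem_bot]
    obtain ⟨z, rfl⟩ := exists_incl_eq Y (RingHom.mem_ker.mp hx)
    obtain ⟨z', rfl⟩ := exists_incl_eq Y (RingHom.mem_ker.mp hy)
    exact incl_mul_incl Y z z'
  refine ⟨Algebra.FormallySmooth.liftOfSurjective (AlgHom.id A C) Y.proj
    Y.isExtension.proj_surjective ⟨2, hker⟩, fun c => ?_⟩
  exact Algebra.FormallySmooth.liftOfSurjective_apply _ _ _ _ c

end Over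

section Kaehler

variable {A : Type u} {B C L : Type v} [CommRing A] [CommRing B] [CommRing C]
  [Algebra A B] [Algebra B C] [Algebra A C] [IsScalarTower A B C] [AddCommGroup L] [Module C L]
  (X : Exal.Ext B C L)

@[simp]
theorem deltaL_apply (z : L) :
    X.deltaL A z = (1 : C) ⊗ₜ[X.CharCarrier A]
      KaehlerDifferential.D A (X.CharCarrier A) (X.inclC A z) := rfl

@[simp]
theorem baseChangeToMiddle_tmul_D (c : C) (b : B) :
    X.baseChangeToMiddle A (c ⊗ₜ[B] KaehlerDifferential.D A B b) =
      c ⊗ₜ[X.CharCarrier A] KaehlerDifferential.D A (X.CharCarrier A)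
        (algebraMap B (X.CharCarrier A) b) := by
  show c ⊗ₜ[X.CharCarrier A] KaehlerDifferential.map A A B (X.CharCarrier A)
      (KaehlerDifferential.D A B b) = _
  rw [KaehlerDifferential.map_D]

theorem deltaL_smul (c : C) (z : L) : X.deltaL A (c • z) = c • X.deltaL A z := by
  obtain ⟨e, rfl⟩ := X.isExtension.proj_surjective c
  let e' : X.CharCarrier A := e
  have hmul : X.inclC A (X.proj e • z) = e' * X.inclC A z :=
    (X.isExtension.mul_incl e z).symm
  rw [deltaL_apply, deltaL_apply, hmul, Derivation.leibniz, tmul_add, tmul_smul, tmul_smul,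
    smul_tmul', smul_tmul', smul_tmul', Algebra.smul_def, Algebra.smul_def]
  simp only [smul_eq_mul, mul_one]
  have h0 : algebraMap (X.CharCarrier A) C (X.inclC A z) = 0 := proj_incl X z
  rw [h0, zero_tmul, add_zero]
  rfl

theorem baseChangeToMiddle_smul (c : C) (t : C ⊗[B] Ω[B⁄A]) :
    X.baseChangeToMiddle A (c • t) = c • X.baseChangeToMiddle A t := by
  induction t using TensorProduct.induction_on with
  | zero => simp
  | tmul c' ω => rw [smul_tmul', smul_eq_mul]; rfl
  | add x y hx hy => rw [smul_add, map_add, map_add, hx, hy, smul_add]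

theorem mapBaseChange_baseChangeToMiddle (t : C ⊗[B] Ω[B⁄A]) :
    KaehlerDifferential.mapBaseChange A (X.CharCarrier A) C (X.baseChangeToMiddle A t) =
      KaehlerDifferential.mapBaseChange A B C t := by
  induction t using TensorProduct.induction_on with
  | zero => simp
  | add x y hx hy => rw [map_add, map_add, map_add, hx, hy]
  | tmul c ω =>
    show KaehlerDifferential.mapBaseChange A (X.CharCarrier A) C
      (c ⊗ₜ[X.CharCarrier A] KaehlerDifferential.map A A B (X.CharCarrier A) ω) = _
    rw [KaehlerDifferential.mapBaseChange_tmul, KaehlerDifferential.mapBaseChange_tmul]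
    congr 1
    have hω : ω ∈ Submodule.span B (Set.range (KaehlerDifferential.D A B)) := by
      rw [KaehlerDifferential.span_range_derivation]; trivial
    induction hω using Submodule.span_induction with
    | mem x hx =>
      obtain ⟨b, rfl⟩ := hx
      simp [← IsScalarTower.algebraMap_apply]
    | zero => simp
    | add x y _ _ hx hy => rw [map_add, map_add, map_add, hx, hy]
    | smul b x _ hx =>
      rw [map_smul (KaehlerDifferential.map A A B (X.CharCarrier A)),
        map_smul (KaehlerDifferential.map A A B C), ← hx, ← algebraMap_smul (X.CharCarrier A) b,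
        map_smul, algebraMap_smul]

/-- The kernel of `C ⊗_E Ω_{E/A} → Ω_{C/A}` is the image of `L`. -/
theorem exists_deltaL_eq {t : C ⊗[X.CharCarrier A] Ω[X.CharCarrier A⁄A]}
    (ht : KaehlerDifferential.mapBaseChange A (X.CharCarrier A) C t = 0) :
    ∃ z : L, X.deltaL A z = t := by
  have h : Function.Surjective (algebraMap (X.CharCarrier A) C) := X.isExtension.proj_surjective
  obtain ⟨y, rfl⟩ :=
    (KaehlerDifferential.exact_kerCotangentToTensor_mapBaseChange A (X.CharCarrier A) C h t).1 ht
  obtain ⟨⟨x, hx⟩, rfl⟩ := Ideal.toCotangent_surjective _ y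
  obtain ⟨z, hz⟩ := exists_incl_eq X (x := (x : X.E)) (RingHom.mem_ker.mp hx)
  refine ⟨z, ?_⟩
  rw [deltaL_apply, KaehlerDifferential.kerCotangentToTensor_toCotangent]
  exact congrArg (fun w : X.CharCarrier A =>
    (1 : C) ⊗ₜ[X.CharCarrier A] KaehlerDifferential.D A (X.CharCarrier A) w) hz

/-- A section over `A` gives a linear retraction of `deltaL`. -/
theorem exists_retraction (s : C →+* X.E) (hs : ∀ c, X.proj (s c) = c)
    (ha : ∀ a, s (algebraMap A C a) = algebraMap B X.E (algebraMap A B a)) :
    ∃ r : C ⊗[X.CharCarrier A] Ω[X.CharCarrier A⁄A] →ₗ[C] L,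
      ∀ (c : C) (e : X.CharCarrier A),
        r (c ⊗ₜ[X.CharCarrier A] KaehlerDifferential.D A (X.CharCarrier A) e) =
          c • secComp X s hs e := by
  let : Module (X.CharCarrier A) L := Module.compHom L (algebraMap (X.CharCarrier A) C)
  have : IsScalarTower (X.CharCarrier A) C L :=
    ⟨fun e c z => by
      show (e • c) • z = algebraMap (X.CharCarrier A) C e • c • z
      rw [Algebra.smul_def, mul_smul]⟩
  let : Module A L := Module.compHom L (algebraMap A C)
  have : IsScalarTower A (X.CharCarrier A) L :=
    ⟨fun a e z => by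
      show algebraMap (X.CharCarrier A) C (a • e) • z =
        algebraMap A C a • algebraMap (X.CharCarrier A) C e • z
      rw [Algebra.smul_def, map_mul, ← IsScalarTower.algebraMap_apply, mul_smul]⟩
  let uE : X.CharCarrier A →+ L := secComp X s hs
  have hmulE : ∀ x y : X.CharCarrier A, uE (x * y) = x • uE y + y • uE x :=
    fun x y => secComp_mul X s hs x y
  let δ : Derivation A (X.CharCarrier A) L :=
    Derivation.mk'
      { toFun := uE
        map_add' := map_add uE
        map_smul' := fun a e => by
          have h0 : uE (algebraMap A (X.CharCarrier A) a) = 0 :=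
            (congrArg (secComp X s hs) (ha a).symm).trans (secComp_section X s hs _)
          rw [Algebra.smul_def, hmulE, h0, smul_zero, add_zero, RingHom.id_apply]
          show algebraMap (X.CharCarrier A) C (algebraMap A (X.CharCarrier A) a) • uE e =
            algebraMap A C a • uE e
          rw [← IsScalarTower.algebraMap_apply] }
      hmulE
  refine ⟨δ.liftKaehlerDifferential.liftBaseChange C, fun c e => ?_⟩
  rw [LinearMap.liftBaseChange_tmul, Derivation.liftKaehlerDifferential_comp_D]
  rfl

theorem retraction_deltaL {s : C →+* X.E} {hs : ∀ c, X.proj (s c) = c}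
    {r : C ⊗[X.CharCarrier A] Ω[X.CharCarrier A⁄A] →ₗ[C] L}
    (hr : ∀ (c : C) (e : X.CharCarrier A),
      r (c ⊗ₜ[X.CharCarrier A] KaehlerDifferential.D A (X.CharCarrier A) e) =
        c • secComp X s hs e) (z : L) :
    r (X.deltaL A z) = z := by
  rw [deltaL_apply, hr, one_smul]
  exact secComp_incl X s hs z

theorem deltaL_injective (hX : X.IsTrivialOver A) : Function.Injective (X.deltaL A) := by
  obtain ⟨s, hs, ha⟩ := (isTrivialOver_iff_exists X).1 hX
  obtain ⟨r, hr⟩ := exists_retraction X s hs ha
  exact Function.LeftInverse.injective (retraction_deltaL X hr)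

/-- The composite `C ⊗_B Ω_{B/A} → C ⊗_E Ω_{E/A} → L` restricted to the imperfection module is a
characteristic homomorphism, for any retraction of `deltaL`. -/
theorem deltaL_retraction_baseChangeToMiddle
    {r : C ⊗[X.CharCarrier A] Ω[X.CharCarrier A⁄A] →ₗ[C] L}
    (hr : ∀ z, r (X.deltaL A z) = z) (z : EGA41.imperfection A B C) :
    X.deltaL A (r (X.baseChangeToMiddle A z)) = X.baseChangeToMiddle A z := by
  obtain ⟨w, hw⟩ := exists_deltaL_eq X (t := X.baseChangeToMiddle A z)
    (by rw [mapBaseChange_baseChangeToMiddle]; exact LinearMap.mem_ker.mp z.2)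
  rw [← hw, hr]

theorem eq_of_isCharHom (hX : X.IsTrivialOver A)
    {χ χ' : EGA41.imperfection A B C →ₗ[C] L} (h : X.IsCharHom A χ) (h' : X.IsCharHom A χ') :
    χ = χ' :=
  LinearMap.ext fun z => deltaL_injective X hX ((h z).trans (h' z).symm)

/-- `r ∘ baseChangeToMiddle` as a `C`-linear map. -/
noncomputable def liftFun (r : C ⊗[X.CharCarrier A] Ω[X.CharCarrier A⁄A] →ₗ[C] L) :
    C ⊗[B] Ω[B⁄A] →ₗ[C] L where
  toFun t := r (X.baseChangeToMiddle A t)
  map_add' x y := by rw [map_add, map_add]
  map_smul' c x := by rw [baseChangeToMiddle_smul, map_smul, RingHom.id_apply]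

theorem liftFun_tmul_D {s : C →+* X.E} {hs : ∀ c, X.proj (s c) = c}
    {r : C ⊗[X.CharCarrier A] Ω[X.CharCarrier A⁄A] →ₗ[C] L}
    (hr : ∀ (c : C) (e : X.CharCarrier A),
      r (c ⊗ₜ[X.CharCarrier A] KaehlerDifferential.D A (X.CharCarrier A) e) =
        c • secComp X s hs e) (c : C) (b : B) :
    liftFun X r (c ⊗ₜ[B] KaehlerDifferential.D A B b) =
      c • secComp X s hs (algebraMap B X.E b) := by
  show r (X.baseChangeToMiddle A _) = _
  rw [baseChangeToMiddle_tmul_D, hr]
  rfl

theorem isCharHom_liftFun {r : C ⊗[X.CharCarrier A] Ω[X.CharCarrier A⁄A] →ₗ[C] L}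
    (hr : ∀ z, r (X.deltaL A z) = z) :
    X.IsCharHom A ((liftFun X r).domRestrict (EGA41.imperfection A B C)) :=
  deltaL_retraction_baseChangeToMiddle X hr

end Kaehler

section OfSurjective

variable {A : Type u} {B E : Type v} [CommRing A] [CommRing B] [Algebra A B] [CommRing E]
  [Algebra A E] (p : E →ₐ[A] B) (hp : Function.Surjective p)
  (hsq : ∀ x y : E, p x = 0 → p y = 0 → x * y = 0)

/-- The module structure on a square-zero kernel. -/
@[implicit_reducible]
noncomputable def kerModule : Module B (RingHom.ker (p : E →+* B)) :=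
  have key : ∀ (x y : E) (z : RingHom.ker (p : E →+* B)), p x = p y → x • z = y • z := by
    intro x y z h
    apply Subtype.ext
    show x * (z : E) = y * (z : E)
    rw [← sub_eq_zero, ← sub_mul]
    exact hsq _ _ (by rw [map_sub, h, sub_self]) (RingHom.mem_ker.mp z.2)
  { smul := fun b z => Function.surjInv hp b • z
    one_smul := fun z => (key _ 1 z (by rw [Function.surjInv_eq hp, map_one])).trans (one_smul E z)
    mul_smul := fun b b' z => (key _ (Function.surjInv hp b * Function.surjInv hp b') z
      (by rw [Function.surjInv_eq hp, map_mul, Function.surjInv_eq hp, Function.surjInv_eq hp])).trans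
      (mul_smul _ _ z)
    smul_zero := fun b => smul_zero (Function.surjInv hp b)
    smul_add := fun b z z' => smul_add (Function.surjInv hp b) z z'
    add_smul := fun b b' z => (key _ (Function.surjInv hp b + Function.surjInv hp b') z
      (by rw [Function.surjInv_eq hp, map_add, Function.surjInv_eq hp, Function.surjInv_eq hp])).trans
      (add_smul _ _ z)
    zero_smul := fun z => (key _ 0 z (by rw [Function.surjInv_eq hp, map_zero])).trans
      (zero_smul E z) }

/-- A surjection with square-zero kernel, as an extension. -/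
noncomputable def ofSurjective :
    letI := kerModule p hp hsq
    Exal.Ext A B (RingHom.ker (p : E →+* B)) :=
  letI := kerModule p hp hsq
  { E := E
    proj := p
    incl := (RingHom.ker (p : E →+* B)).toAddSubgroup.subtype
    isExtension :=
      { proj_surjective := hp
        incl_injective := Subtype.val_injective
        exact := fun x => ⟨fun hx => ⟨⟨x, hx⟩, rfl⟩, by rintro ⟨z, rfl⟩; exact z.2⟩
        mul_incl := fun x z => by
          show x * (z : E) = Function.surjInv hp (p x) * (z : E)
          rw [← sub_eq_zero, ← sub_mul]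
          exact hsq _ _ (by rw [map_sub, Function.surjInv_eq hp, sub_self])
            (RingHom.mem_ker.mp z.2) } }

end OfSurjective

section Transfer

/-- Along a surjection `P → E` with kernel inside the square of `ker (P → S)`, the map
`S ⊗_P Ω_{P/R} → S ⊗_E Ω_{E/R}` is injective: it has an additive left inverse. -/
theorem exists_leftInverse_tensor {R : Type w} {P E S : Type*} [CommRing R] [CommRing P]
    [CommRing E] [CommRing S] [Algebra R P] [Algebra R E] [Algebra P E] [IsScalarTower R P E]
    [Algebra E S] [Algebra P S] [IsScalarTower P E S]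
    (hq : Function.Surjective (algebraMap P E))
    (hker : RingHom.ker (algebraMap P E) ≤ RingHom.ker (algebraMap P S) ^ 2) :
    ∃ g : S ⊗[E] Ω[E⁄R] →+ S ⊗[P] Ω[P⁄R], ∀ (s : S) (x : P),
      g (s ⊗ₜ[E] KaehlerDifferential.D R E (algebraMap P E x)) =
        s ⊗ₜ[P] KaehlerDifferential.D R P x := by
  let : Algebra R S := ((algebraMap P S).comp (algebraMap R P)).toAlgebra
  have : IsScalarTower R P S := IsScalarTower.of_algebraMap_eq fun _ => rfl
  have hPE : ∀ (x : P) (z : S ⊗[P] Ω[P⁄R]), algebraMap P E x • z = x • z := by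
    intro x z
    rw [← algebraMap_smul S (algebraMap P E x) z, ← IsScalarTower.algebraMap_apply, algebraMap_smul]
  have : IsScalarTower R E (S ⊗[P] Ω[P⁄R]) :=
    ⟨fun r e z => by
      rw [Algebra.smul_def, mul_smul, IsScalarTower.algebraMap_apply R P E, hPE, algebraMap_smul]⟩
  let φ : P →ₗ[R] S ⊗[P] Ω[P⁄R] :=
    { toFun := fun x => (1 : S) ⊗ₜ[P] KaehlerDifferential.D R P x
      map_add' := fun x y => by rw [map_add, tmul_add]
      map_smul' := fun r x => by rw [Derivation.map_smul, tmul_smul, RingHom.id_apply] }
  have hsqzero : ∀ x ∈ RingHom.ker (algebraMap P S) ^ 2, φ x = 0 := by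
    intro x hx
    rw [pow_two] at hx
    refine Submodule.mul_induction_on hx (fun a ha b hb => ?_)
      (fun a b ha hb => by rw [map_add, ha, hb, add_zero])
    show (1 : S) ⊗ₜ[P] KaehlerDifferential.D R P (a * b) = 0
    simp only [Derivation.leibniz, tmul_add, tmul_smul, smul_tmul', Algebra.smul_def,
      RingHom.mem_ker.mp ha, RingHom.mem_ker.mp hb, zero_mul, zero_tmul, add_zero]
  have hwd : ∀ x y : P, algebraMap P E x = algebraMap P E y → φ x = φ y := by
    intro x y h
    rw [← sub_eq_zero, ← map_sub]
    exact hsqzero _ (hker (by rw [RingHom.mem_ker, map_sub, h, sub_self]))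
  let δ₀ : E → S ⊗[P] Ω[P⁄R] := fun e => φ (Function.surjInv hq e)
  have hδ : ∀ x, δ₀ (algebraMap P E x) = φ x :=
    fun x => hwd _ _ (Function.surjInv_eq hq _)
  let δ : Derivation R E (S ⊗[P] Ω[P⁄R]) :=
    Derivation.mk'
      { toFun := δ₀
        map_add' := fun e e' => by
          obtain ⟨x, rfl⟩ := hq e
          obtain ⟨y, rfl⟩ := hq e'
          rw [← map_add (algebraMap P E), hδ, hδ, hδ, map_add]
        map_smul' := fun r e => by
          obtain ⟨x, rfl⟩ := hq e
          rw [Algebra.smul_def, IsScalarTower.algebraMap_apply R P E, ← map_mul, hδ, hδ,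
            ← Algebra.smul_def, map_smul, RingHom.id_apply] }
      (fun e e' => by
        obtain ⟨x, rfl⟩ := hq e
        obtain ⟨y, rfl⟩ := hq e'
        show δ₀ _ = _ • δ₀ _ + _ • δ₀ _
        rw [← map_mul, hδ, hδ, hδ, hPE, hPE]
        show (1 : S) ⊗ₜ[P] KaehlerDifferential.D R P (x * y) = _
        rw [Derivation.leibniz, tmul_add, tmul_smul, tmul_smul]
        rfl)
  refine ⟨(δ.liftKaehlerDifferential.liftBaseChange S).toAddMonoidHom, fun s x => ?_⟩
  rw [LinearMap.toAddMonoidHom_coe, LinearMap.liftBaseChange_tmul,
    Derivation.liftKaehlerDifferential_comp_D]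
  show s • δ₀ _ = _
  rw [hδ]
  show s • ((1 : S) ⊗ₜ[P] KaehlerDifferential.D R P x) = _
  rw [smul_tmul', smul_eq_mul, mul_one]

/-- Elements of `S ⊗_P Ω_{P/R}` are detected on pure differentials. -/
theorem addHom_ext_tmul_D {R : Type w} {P S N : Type*} [CommRing R] [CommRing P] [CommRing S]
    [Algebra R P] [Algebra P S] [AddCommGroup N] {f g : S ⊗[P] Ω[P⁄R] →+ N}
    (h : ∀ (s : S) (x : P), f (s ⊗ₜ[P] KaehlerDifferential.D R P x) =
      g (s ⊗ₜ[P] KaehlerDifferential.D R P x)) : f = g := by
  ext t
  induction t using TensorProduct.induction_on with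
  | zero => rw [map_zero, map_zero]
  | add x y hx hy => rw [map_add, map_add, hx, hy]
  | tmul s ω =>
    have hω : ω ∈ Submodule.span P (Set.range (KaehlerDifferential.D R P)) := by
      rw [KaehlerDifferential.span_range_derivation]; trivial
    induction hω using Submodule.span_induction generalizing s with
    | mem x hx => obtain ⟨x, rfl⟩ := hx; exact h s x
    | zero => rw [tmul_zero, map_zero, map_zero]
    | add x y _ _ hx hy => rw [tmul_add, map_add, map_add, hx, hy]
    | smul a x _ hx => rw [← smul_tmul, hx]

end Transfer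

end Groth.Agent.ExalLib
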