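import Mathlib
import Groth.Agent.ExalLib.Basic

/-!
# The extension attached to a symmetric Hochschild 2-cocycle
-/

universe u v

namespace Groth.Agent.ExalLib

set_option linter.unusedSectionVars false

open Exal

variable {A : Type u} {B L : Type v} [CommRing A] [CommRing B] [Algebra A B] [AddCommGroup L]
  [Module B L] [Module A L] [IsScalarTower A B L]

/-- A symmetric bilinear Hochschild 2-cocycle. -/
structure Cocycle (A : Type u) (B L : Type v) [CommRing A] [CommRing B] [Algebra A B]
    [AddCommGroup L] [Module B L] [Module A L] where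
  /-- The underlying bilinear map. -/
  f : B →ₗ[A] B →ₗ[A] L
  symm : ∀ x y : B, f x y = f y x
  coc : ∀ x y z : B, f (x * y) z + z • f x y = x • f y z + f x (y * z)

/-- The carrier `B × L` of the twisted extension. -/
@[nolint unusedArguments]
def TwistCarrier (_c : Cocycle A B L) : Type v := B × L

namespace TwistCarrier

variable {c : Cocycle A B L}

instance : AddCommGroup (TwistCarrier c) := inferInstanceAs (AddCommGroup (B × L))

theorem ext' {x y : TwistCarrier c} (h1 : x.1 = y.1) (h2 : x.2 = y.2) : x = y := Prod.ext h1 h2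

instance : Mul (TwistCarrier c) :=
  ⟨fun x y => ((x.1 * y.1, x.1 • y.2 + y.1 • x.2 + c.f x.1 y.1) : B × L)⟩

instance : One (TwistCarrier c) := ⟨((1, -c.f 1 1) : B × L)⟩

theorem mul_fst (x y : TwistCarrier c) : (x * y).1 = x.1 * y.1 := rfl

theorem mul_snd (x y : TwistCarrier c) :
    (x * y).2 = x.1 • y.2 + y.1 • x.2 + c.f x.1 y.1 := rfl

theorem f_one_left (x : B) : c.f 1 x = x • c.f 1 1 := by
  have h := c.coc 1 1 x
  rw [one_mul, one_mul, one_smul] at h
  exact (add_left_cancel h).symm

theorem mul_comm' (x y : TwistCarrier c) : x * y = y * x := by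
  refine ext' (mul_comm _ _) ?_
  rw [mul_snd, mul_snd, c.symm]
  abel

theorem one_mul' (x : TwistCarrier c) : 1 * x = x := by
  refine ext' (one_mul _) ?_
  rw [mul_snd]
  show (1 : B) • x.2 + x.1 • -c.f 1 1 + c.f 1 x.1 = x.2
  rw [one_smul, f_one_left x.1, smul_neg]
  abel

instance : CommRing (TwistCarrier c) :=
  { (inferInstance : AddCommGroup (TwistCarrier c)) with
    mul := (· * ·)
    one := 1
    mul_assoc := fun x y z => by
      refine ext' (mul_assoc _ _ _) ?_
      rw [mul_snd, mul_snd, mul_snd, mul_snd, mul_fst, mul_fst, smul_add, smul_add, smul_add,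
        smul_add, mul_smul, smul_smul z.1, mul_comm z.1 x.1, mul_smul, mul_smul, smul_comm z.1 y.1]
      linear_combination (norm := module) c.coc x.1 y.1 z.1
    one_mul := one_mul'
    mul_one := fun x => (mul_comm' x 1).trans (one_mul' x)
    left_distrib := fun x y z => by
      refine ext' (mul_add _ _ _) ?_
      show x.1 • (y.2 + z.2) + (y.1 + z.1) • x.2 + c.f x.1 (y.1 + z.1) =
        (x.1 • y.2 + y.1 • x.2 + c.f x.1 y.1) + (x.1 • z.2 + z.1 • x.2 + c.f x.1 z.1)
      rw [map_add, smul_add, add_smul]
      abel
    right_distrib := fun x y z => by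
      refine ext' (add_mul _ _ _) ?_
      show (x.1 + y.1) • z.2 + z.1 • (x.2 + y.2) + c.f (x.1 + y.1) z.1 =
        (x.1 • z.2 + z.1 • x.2 + c.f x.1 z.1) + (y.1 • z.2 + z.1 • y.2 + c.f y.1 z.1)
      rw [map_add, LinearMap.add_apply, smul_add, add_smul]
      abel
    zero_mul := fun x => by
      refine ext' (zero_mul _) ?_
      show (0 : B) • x.2 + x.1 • (0 : L) + c.f 0 x.1 = 0
      simp
    mul_zero := fun x => by
      refine ext' (mul_zero _) ?_
      show x.1 • (0 : L) + (0 : B) • x.2 + c.f x.1 0 = 0
      simp
    mul_comm := mul_comm' }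

/-- The structure map of the twisted extension. -/
noncomputable def structureMap (c : Cocycle A B L) : A →+* TwistCarrier c where
  toFun a := ((algebraMap A B a, -(a • c.f 1 1)) : B × L)
  map_one' := by
    refine ext' (map_one _) ?_
    show -((1 : A) • c.f 1 1) = -c.f 1 1
    rw [one_smul]
  map_mul' a b := by
    refine ext' (map_mul _ _ _) ?_
    rw [mul_snd]
    show -((a * b) • c.f 1 1) = algebraMap A B a • -(b • c.f 1 1) +
      algebraMap A B b • -(a • c.f 1 1) + c.f (algebraMap A B a) (algebraMap A B b)
    rw [Algebra.algebraMap_eq_smul_one, Algebra.algebraMap_eq_smul_one, map_smul, map_smul,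
      LinearMap.smul_apply, smul_assoc, smul_assoc, one_smul, one_smul, smul_neg, smul_neg,
      smul_smul, smul_smul, mul_comm b a]
    abel
  map_zero' := by
    refine ext' (map_zero _) ?_
    show -((0 : A) • c.f 1 1) = 0
    rw [zero_smul, neg_zero]
  map_add' a b := by
    refine ext' (map_add _ _ _) ?_
    show -((a + b) • c.f 1 1) = -(a • c.f 1 1) + -(b • c.f 1 1)
    rw [add_smul, neg_add]

noncomputable instance : Algebra A (TwistCarrier c) := (structureMap c).toAlgebra

end TwistCarrier

/-- The extension attached to a cocycle. -/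
noncomputable def twistExt (c : Cocycle A B L) : Exal.Ext A B L where
  E := TwistCarrier c
  proj :=
    { toFun := fun x => x.1
      map_one' := rfl
      map_mul' := fun _ _ => rfl
      map_zero' := rfl
      map_add' := fun _ _ => rfl
      commutes' := fun _ => rfl }
  incl :=
    { toFun := fun z => ((0, z) : B × L)
      map_zero' := rfl
      map_add' := fun z w => TwistCarrier.ext' (add_zero (0 : B)).symm rfl }
  isExtension :=
    { proj_surjective := fun b => ⟨((b, 0) : B × L), rfl⟩
      incl_injective := fun z w h => congrArg Prod.snd (h : ((0, z) : B × L) = (0, w))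
      exact := fun x => by
        constructor
        · intro hx
          exact ⟨x.2, TwistCarrier.ext' hx.symm rfl⟩
        · rintro ⟨z, rfl⟩
          rfl
      mul_incl := fun x z => by
        refine TwistCarrier.ext' (mul_zero _) ?_
        show x.1 • z + (0 : B) • x.2 + c.f x.1 0 = x.1 • z
        simp }

end Groth.Agent.ExalLib
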